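import Cfsg.Agent.H508.KB.Defs

/-!
# S4822, AO: general facts on `AbOut`

* `abOut_congr` : transport along an isomorphism;
* `abOut_of` : it is enough to treat the elements `δ` of a subgroup `D` containing all commutators with `δ ^ m` inner,
  `p ∤ m`;
* `exists_lift_sylow` : lifting a Sylow subgroup along a surjective homomorphism;
* `exists_split` : in a finite commutative group, `c ^ m = u ^ n` with `p ∤ m` gives `c = c₁ w ^ n` with `c₁` of order
  prime to `p`.
-/

set_option autoImplicit false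

open Subgroup Cfsg.Agent.H508.KB
open scoped Pointwise

namespace Cfsg.Agent.H845.KB

universe u v

theorem abOut_congr {p : ℕ} [Fact p.Prime] {S : Type u} {S' : Type v} [Group S] [Finite S] [Group S'] (e : S ≃* S')
    (h : AbOut p S') : AbOut p S := by
  intro P A hA hAp α hα β hβ
  have hfin : Finite S' := Finite.of_equiv S e.toEquiv
  obtain ⟨P', hP'⟩ : ∃ P' : Sylow p S', (P' : Subgroup S') = (P : Subgroup S).map (e : S →* S') :=
    ⟨P.mapSurjective (f := (e : S →* S')) e.surjective, rfl⟩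
  let c : MulAut S ≃* MulAut S' := MulAut.congr e
  have hc : ∀ (γ : MulAut S) (x : S), c γ (e x) = e (γ x) := by
    intro γ x
    change e (γ (e.symm (e x))) = _
    rw [e.symm_apply_apply]
  have hrange : (MulAut.conj : S' →* MulAut S').range = (MulAut.conj : S →* MulAut S).range.map (c : MulAut S →* MulAut S') := by
    ext γ
    constructor
    · rintro ⟨s', rfl⟩
      obtain ⟨s, rfl⟩ := e.surjective s'
      refine ⟨MulAut.conj s, ⟨s, rfl⟩, ?_⟩
      apply MulEquiv.ext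
      intro y
      obtain ⟨x, rfl⟩ := e.surjective y
      change c (MulAut.conj s) (e x) = _
      rw [hc, MulAut.conj_apply, MulAut.conj_apply, map_mul, map_mul, map_inv]
    · rintro ⟨_, ⟨s, rfl⟩, rfl⟩
      refine ⟨e s, ?_⟩
      apply MulEquiv.ext
      intro y
      obtain ⟨x, rfl⟩ := e.surjective y
      change _ = c (MulAut.conj s) (e x)
      rw [hc, MulAut.conj_apply, MulAut.conj_apply, map_mul, map_mul, map_inv]
  obtain ⟨s', hs'⟩ := h P' (A.map (c : MulAut S →* MulAut S')) (by rw [hrange]; exact Subgroup.map_mono hA)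
    (by
      rw [hrange, Subgroup.relIndex_map_map_of_injective _ _ c.injective]
      exact hAp) (c α) ⟨α, hα, rfl⟩ (c β) ⟨β, hβ, rfl⟩
  refine ⟨e.symm s', fun x hx => ?_⟩
  have h1 := hs' (e x) (by rw [hP']; exact ⟨x, hx, rfl⟩)
  have h2 : c α * c β * (c α)⁻¹ * (c β)⁻¹ = c (α * β * α⁻¹ * β⁻¹) := by
    rw [map_mul, map_mul, map_mul, map_inv, map_inv]
  rw [h2, hc] at h1
  apply e.injective
  rw [h1, map_mul, map_mul, map_inv, e.apply_symm_apply]

theorem abOut_of {p : ℕ} {S : Type u} [Group S] [Finite S] (D : Subgroup (MulAut S))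
    (hcomm : ∀ α β : MulAut S, α * β * α⁻¹ * β⁻¹ ∈ D)
    (h : ∀ (P : Sylow p S), ∀ δ ∈ D, ∀ m : ℕ, ¬ p ∣ m → δ ^ m ∈ (MulAut.conj : S →* MulAut S).range →
      ∃ s : S, ∀ x ∈ (P : Subgroup S), δ x = s * x * s⁻¹) : AbOut p S := by
  intro P A hA hAp α hα β hβ
  have hγ : α * β * α⁻¹ * β⁻¹ ∈ A :=
    A.mul_mem (A.mul_mem (A.mul_mem hα hβ) (A.inv_mem hα)) (A.inv_mem hβ)
  refine h P _ (hcomm α β) ((MulAut.conj : S →* MulAut S).range.relIndex A) hAp ?_
  haveI hn : ((MulAut.conj : S →* MulAut S).range).Normal := by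
    refine ⟨?_⟩
    rintro _ ⟨s, rfl⟩ φ
    refine ⟨φ s, ?_⟩
    apply MulEquiv.ext
    intro x
    rw [MulAut.conj_apply, MulAut.mul_apply, MulAut.mul_apply, MulAut.conj_apply, map_mul, map_mul, map_inv,
      MulAut.apply_inv_self]
  have h1 := Subgroup.pow_index_mem (((MulAut.conj : S →* MulAut S).range).subgroupOf A) ⟨_, hγ⟩
  exact h1

theorem exists_lift_sylow {p : ℕ} [Fact p.Prime] {G : Type u} {S : Type v} [Group G] [Finite G] [Group S] (f : G →* S)
    (hf : Function.Surjective f) (P : Sylow p S) :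
    ∃ Q : Subgroup G, IsPGroup p Q ∧ ∀ x ∈ (P : Subgroup S), ∃ t ∈ Q, f t = x := by
  have hfin : Finite S := Finite.of_surjective f hf
  obtain ⟨T⟩ : Nonempty (Sylow p G) := inferInstance
  obtain ⟨y, hy⟩ := MulAction.exists_smul_eq S (T.mapSurjective hf) P
  obtain ⟨g, rfl⟩ := hf y
  refine ⟨((g • T : Sylow p G) : Subgroup G), (g • T : Sylow p G).isPGroup', ?_⟩
  intro x hx
  rw [← hy, Sylow.smul_def] at hx
  have h1 : x ∈ MulAut.conj (f g) • ((T : Subgroup G).map f) := hx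
  rw [Subgroup.mem_pointwise_smul_iff_inv_smul_mem] at h1
  obtain ⟨t, ht, htx⟩ := h1
  refine ⟨g * t * g⁻¹, ?_, ?_⟩
  · rw [Sylow.smul_def]
    have h2 : g * t * g⁻¹ = MulAut.conj g • t := rfl
    have h3 : MulAut.conj g • t ∈ MulAut.conj g • (T : Subgroup G) := Subgroup.smul_mem_pointwise_smul _ _ _ ht
    rw [h2]
    exact h3
  · rw [map_mul, map_mul, map_inv, htx]
    have h4 : (MulAut.conj (f g))⁻¹ • x = (f g)⁻¹ * x * f g := by
      rw [← map_inv]
      change (f g)⁻¹ * x * (f g)⁻¹⁻¹ = _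
      rw [inv_inv]
    rw [h4]
    group

theorem exists_split {p : ℕ} [hp : Fact p.Prime] {C : Type u} [CommGroup C] [Finite C] {c u : C} {m n : ℕ}
    (hm : ¬ p ∣ m) (h : c ^ m = u ^ n) : ∃ c₁ w : C, ¬ p ∣ orderOf c₁ ∧ c = c₁ * w ^ n := by
  obtain ⟨a, t, ht, hat⟩ := Nat.exists_eq_pow_mul_and_not_dvd (Nat.card_pos (α := C)).ne' p hp.out.ne_one
  have hcop : IsCoprime (m : ℤ) ((p ^ a : ℕ) : ℤ) := by
    rw [Nat.isCoprime_iff_coprime]
    exact Nat.Coprime.pow_right _ (((Nat.Prime.coprime_iff_not_dvd hp.out).2 hm).symm)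
  obtain ⟨k, l, hkl⟩ := hcop
  refine ⟨c ^ (l * ((p ^ a : ℕ) : ℤ)), u ^ k, ?_, ?_⟩
  · intro hdvd
    apply ht
    refine hdvd.trans ?_
    apply orderOf_dvd_of_pow_eq_one
    rw [← zpow_natCast, ← zpow_mul, mul_assoc]
    have h1 : ((p ^ a : ℕ) : ℤ) * (t : ℤ) = ((Nat.card C : ℕ) : ℤ) := by rw [hat]; push_cast; ring
    rw [h1, mul_comm, zpow_mul, zpow_natCast, pow_card_eq_one', one_zpow]
  · have h1 : (u ^ k) ^ n = c ^ (k * (m : ℤ)) := by
      rw [← zpow_natCast, ← zpow_mul, mul_comm k (n : ℤ), zpow_mul, zpow_natCast, ← h, ← zpow_natCast, ← zpow_mul,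
        mul_comm k]
    rw [h1, ← zpow_add, add_comm, hkl, zpow_one]

end Cfsg.Agent.H845.KB
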