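import Cfsg.Agent.H845.KB.CenDet

/-!
# S4822, AO: determinants of elements commuting with a `p`-group, the induction
-/

set_option autoImplicit false

namespace Cfsg.Agent.H845.KB

open Module Cfsg.Agent.GpLn.Rank Subgroup

universe u v w

theorem commute_conj {G : Type*} [Group G] (y : G) {k z : G} (h : Commute k z) :
    Commute (y * k * y⁻¹) (y * z * y⁻¹) := h.map (MulAut.conj y)

section step

variable {F : Type w} [Field F] [Finite F] {V : Type v} [AddCommGroup V] [Module F V] [FiniteDimensional F V]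
variable {B : Type u} [Group B] [Finite B] {p : ℕ} [hp : Fact p.Prime]

omit [Finite F] [FiniteDimensional F V] [Finite B] in
theorem psi_mul (ψ : B →* (V →ₗ[F] V)) (a b : B) (v : V) : ψ (a * b) v = ψ a (ψ b v) := by
  rw [map_mul]; rfl

omit [Finite F] [FiniteDimensional F V] [Finite B] in
theorem psi_one (ψ : B →* (V →ₗ[F] V)) (v : V) : ψ 1 v = v := by
  rw [map_one]; rfl

/-- a noncyclic elementary abelian subgroup has an element `≠ 1` with a fixed vector -/
theorem exists_fix (hpF : (p : F) ≠ 0) (ψ : B →* (V →ₗ[F] V)) (hinj : Function.Injective ψ) (E : Subgroup B)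
    (hE : IsElementaryAbelian p E) (hEc : Nat.card E = p ^ 2) :
    ∃ b ∈ E, b ≠ 1 ∧ ∃ v : V, v ≠ 0 ∧ ψ b v = v := by
  classical
  obtain ⟨hcomm, hexp⟩ := hE
  letI : CommGroup E := { (inferInstance : Group E) with mul_comm := fun a b => hcomm.is_comm.comm a b }
  let θ : E →* (V →ₗ[F] V) := ψ.comp E.subtype
  have hθ : ∀ (e : E) (v : V), θ e v = ψ e v := fun _ _ => rfl
  have hcard : (Nat.card E : F) ≠ 0 := by
    rw [hEc, Nat.cast_pow]
    exact pow_ne_zero _ hpF
  have hne : ∃ a v, θ a v ≠ v := by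
    by_contra hcon
    push Not at hcon
    have h1 : E = ⊥ := by
      rw [Subgroup.eq_bot_iff_forall]
      intro x hx
      apply hinj
      rw [map_one]
      apply LinearMap.ext
      intro v
      exact hcon ⟨x, hx⟩ v
    rw [h1, Subgroup.card_bot] at hEc
    have := hp.out.two_le
    nlinarith
  obtain ⟨W, hW, ⟨a, w, hw, haw⟩, hmin⟩ := exists_irr θ hcard hne
  have hw0 : w ≠ 0 := fun h => haw (by rw [h, map_zero])
  haveI : Nontrivial W := ⟨⟨⟨w, hw⟩, 0, fun h => hw0 (congrArg Subtype.val h)⟩⟩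
  have hirr : ∀ U : Submodule F W, Inv (restr θ W hW) U → U = ⊥ ∨ U = ⊤ := by
    intro U hU
    have h1 : Inv θ (U.map W.subtype) := by
      rintro e _ ⟨u, hu, rfl⟩
      exact ⟨restr θ W hW e u, hU e u hu, rfl⟩
    rcases hmin _ (Submodule.map_subtype_le W U) h1 with h2 | h2
    · left
      rw [Submodule.eq_bot_iff]
      intro x hx
      have h3 : (x : V) ∈ U.map W.subtype := ⟨x, hx, rfl⟩
      rw [h2] at h3
      exact Subtype.ext ((Submodule.mem_bot F).1 h3)
    · right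
      rw [eq_top_iff]
      intro x _
      have h3 : (x : V) ∈ U.map W.subtype := by rw [h2]; exact x.2
      obtain ⟨y, hy, hyx⟩ := h3
      have h4 : y = x := Subtype.ext hyx
      rwa [← h4]
  have h1 := index_ker_le (restr θ W hW) hirr hp.out.pos (fun e => Subtype.ext (by
    rw [Subgroup.coe_pow]; exact hexp e e.2))
  have h2 : (restr θ W hW).ker ≠ ⊥ := by
    intro h
    rw [h, Subgroup.index_bot, hEc] at h1
    have := hp.out.two_le
    nlinarith
  obtain ⟨⟨⟨b, hb⟩, hbk⟩, hb0⟩ := Subgroup.ne_bot_iff_exists_ne_one.1 h2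
  have hb1 : (⟨b, hb⟩ : E) ≠ 1 := fun h => hb0 (Subtype.ext h)
  refine ⟨b, hb, fun h => hb1 (Subtype.ext h), w, hw0, ?_⟩
  have h3 : restr θ W hW ⟨b, hb⟩ = 1 := hbk
  have h4 := congrArg Subtype.val (LinearMap.congr_fun h3 ⟨w, hw⟩)
  exact h4

/-- the irreducible faithful noncyclic case of the induction -/
theorem step (hpF : (p : F) ≠ 0) (hB : IsPGroup p B) (ψ : B →* (V →ₗ[F] V)) (hinj : Function.Injective ψ)
    (hirr : ∀ U : Submodule F V, Inv ψ U → U = ⊥ ∨ U = ⊤) (E : Subgroup B) [hEn : E.Normal]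
    (hE : IsElementaryAbelian p E) (hEc : Nat.card E = p ^ 2)
    (ih : ∀ (W : Submodule F V) (Q : Subgroup B) (hW : Inv (ψ.comp Q.subtype) W) (c : Fˣ), ¬ p ∣ orderOf c →
      0 < finrank F W → finrank F W < finrank F V →
      ∃ h : W →ₗ[F] W, LinearMap.det h = c ∧ ∀ a v, h (restr (ψ.comp Q.subtype) W hW a v) =
        restr (ψ.comp Q.subtype) W hW a (h v)) (c : Fˣ) (hc : ¬ p ∣ orderOf c) :
    ∃ h : V →ₗ[F] V, LinearMap.det h = c ∧ ∀ a v, h (ψ a v) = ψ a (h v) := by
  classical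
  obtain ⟨b, hbE, hb1, v0, hv0, hbv⟩ := exists_fix hpF ψ hinj E hE hEc
  obtain ⟨hcomm, hexp⟩ := hE
  have hEcomm : ∀ x ∈ E, ∀ y ∈ E, x * y = y * x := fun x hx y hy =>
    congrArg Subtype.val (hcomm.is_comm.comm (⟨x, hx⟩ : E) ⟨y, hy⟩)
  have hbp : orderOf b = p := orderOf_eq_prime (hexp b hbE) hb1
  -- no fixed vectors of `E`
  have hE0 : ∀ v : V, (∀ e ∈ E, ψ e v = v) → v = 0 := by
    let UE : Submodule F V :=
      { carrier := {v | ∀ e ∈ E, ψ e v = v}
        add_mem' := by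
          intro x y hx hy e he
          rw [map_add, hx e he, hy e he]
        zero_mem' := fun e _ => map_zero _
        smul_mem' := by
          intro r x hx e he
          rw [map_smul, hx e he] }
    have h1 : Inv ψ UE := by
      intro a v hv e he
      have h2 : a⁻¹ * e * a ∈ E := by
        have := hEn.conj_mem e he a⁻¹
        rwa [inv_inv] at this
      have h3 : ψ (a⁻¹ * e * a) v = v := hv _ h2
      have h4 : ψ e (ψ a v) = ψ a (ψ (a⁻¹ * e * a) v) := by
        rw [← psi_mul, ← psi_mul]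
        congr 2
        group
      rw [h4, h3]
    rcases hirr UE h1 with h2 | h2
    · intro v hv
      have h3 : v ∈ UE := hv
      rw [h2] at h3
      exact (Submodule.mem_bot F).1 h3
    · exfalso
      apply hb1
      apply hinj
      rw [map_one]
      apply LinearMap.ext
      intro v
      have h3 : v ∈ UE := by rw [h2]; exact Submodule.mem_top
      exact h3 b hbE
  -- the fixed space of `b`
  let W : Submodule F V := LinearMap.ker (ψ b - 1)
  have hWm : ∀ v, v ∈ W ↔ ψ b v = v := by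
    intro v
    change (ψ b - 1) v = 0 ↔ _
    rw [LinearMap.sub_apply, sub_eq_zero]
    rfl
  have hpow : ∀ x ∈ zpowers b, ∀ w ∈ W, ψ x w = w := by
    intro x hx w hw
    obtain ⟨m, hm⟩ := mem_powers_iff_mem_zpowers.2 hx
    have hm' : b ^ m = x := hm
    subst hm'
    clear hm hx
    induction m with
    | zero => rw [pow_zero, psi_one]
    | succ m ih => rw [pow_succ, psi_mul, (hWm w).1 hw, ih]
  let Q : Subgroup B := normalizer (zpowers b : Set B)
  have hQ : ∀ z, z * b * z⁻¹ ∈ zpowers b → z ∈ Q := by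
    intro z hz
    rw [mem_normalizer_iff_map_conj_eq]
    apply Subgroup.eq_of_le_of_card_ge
    · rw [MonoidHom.map_zpowers, zpowers_le]
      exact hz
    · rw [Subgroup.card_map_of_injective (MulAut.conj z).injective]
  have hQW : ∀ a ∈ Q, ∀ w ∈ W, ψ a w ∈ W := by
    intro a ha w hw
    rw [hWm]
    have h1 : a⁻¹ * b * a ∈ zpowers b := (mem_normalizer_iff''.1 ha b).1 (mem_zpowers b)
    have h4 : ψ b (ψ a w) = ψ a (ψ (a⁻¹ * b * a) w) := by
      rw [← psi_mul, ← psi_mul]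
      congr 2
      group
    rw [h4, hpow _ h1 w hw]
  have hEQ : E ≤ Q := by
    intro x hx
    apply hQ
    rw [hEcomm x hx b hbE, mul_inv_cancel_right]
    exact mem_zpowers b
  have hW : Inv (ψ.comp Q.subtype) W := fun a w hw => hQW a a.2 w hw
  have hcardF : ∀ H : Subgroup B, (Nat.card H : F) ≠ 0 := by
    intro H
    obtain ⟨k, hk⟩ := IsPGroup.iff_card.1 (hB.to_subgroup H)
    rw [hk, Nat.cast_pow]
    exact pow_ne_zero _ hpF
  obtain ⟨U, hU, hWU⟩ := exists_compl (ψ.comp Q.subtype) (hcardF Q) W hW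
  have hQU : ∀ a ∈ Q, ∀ u ∈ U, ψ a u ∈ U := fun a ha u hu => hU ⟨a, ha⟩ u hu
  -- dimensions
  have hW0 : W ≠ ⊥ := by
    intro h
    have h1 : v0 ∈ W := (hWm v0).2 hbv
    rw [h] at h1
    exact hv0 ((Submodule.mem_bot F).1 h1)
  have hW1 : W ≠ ⊤ := by
    intro h
    apply hb1
    apply hinj
    rw [map_one]
    apply LinearMap.ext
    intro v
    exact (hWm v).1 (by rw [h]; exact Submodule.mem_top)
  have hd0 : 0 < finrank F W := by
    haveI := Submodule.nontrivial_iff_ne_bot.2 hW0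
    exact Module.finrank_pos
  have hd1 : finrank F W < finrank F V := Submodule.finrank_lt hW1
  -- the root of `c`
  have hcop : (Nat.card B).Coprime (orderOf c) := by
    obtain ⟨k, hk⟩ := IsPGroup.iff_card.1 hB
    rw [hk]
    exact Nat.Coprime.pow_left _ ((Nat.Prime.coprime_iff_not_dvd hp.out).2 hc)
  obtain ⟨m, hm⟩ := exists_pow_eq_self_of_coprime hcop
  have hc1 : ¬ p ∣ orderOf (c ^ m) := fun h => hc (h.trans (orderOf_pow_dvd m))
  obtain ⟨f, hf, hfc⟩ := ih W Q hW (c ^ m) hc1 hd0 hd1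
  -- the element `k`
  have hkdet : LinearMap.det (gl hWU f) = ((c ^ m : Fˣ) : F) := by rw [det_gl, hf]
  have hku : IsUnit (gl hWU f) := by
    rw [LinearMap.isUnit_iff_isUnit_det, hkdet]
    exact Units.isUnit _
  obtain ⟨k, hk⟩ := hku
  have hkap : ∀ v, (k : V →ₗ[F] V) v = gl hWU f v := fun v => by rw [hk]
  let ρ : B →* (V →ₗ[F] V)ˣ := ψ.toHomUnits
  have hρ : ∀ (a : B) (v : V), ((ρ a : (V →ₗ[F] V)ˣ) : V →ₗ[F] V) v = ψ a v := fun a v => rfl
  have hρi : ∀ (a : B) (v : V), (((ρ a)⁻¹ : (V →ₗ[F] V)ˣ) : V →ₗ[F] V) v = ψ a⁻¹ v := by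
    intro a v
    rw [← map_inv]
    rfl
  let D : (V →ₗ[F] V)ˣ →* Fˣ := Units.map (LinearMap.det : (V →ₗ[F] V) →* F)
  -- `k` commutes with `Q`
  have hkQ : ∀ a ∈ Q, ρ a * k * (ρ a)⁻¹ = k := by
    intro a ha
    rw [mul_inv_eq_iff_eq_mul]
    apply Units.ext
    apply LinearMap.ext
    intro v
    change ψ a ((k : V →ₗ[F] V) v) = (k : V →ₗ[F] V) (ψ a v)
    rw [hkap, hkap]
    symm
    apply gl_comm hWU f (ψ a) (hQW a ha) (hQU a ha)
    intro w hw
    exact congrArg Subtype.val (hfc ⟨a, ha⟩ w)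
  have hkU : ∀ u ∈ U, (k : V →ₗ[F] V) u = u := fun u hu => by rw [hkap]; exact gl_right hWU f ⟨u, hu⟩
  have hkd : ∀ v, (k : V →ₗ[F] V) v - v ∈ W := by
    intro v
    obtain ⟨w, u, rfl⟩ := exists_dec hWU v
    rw [hkap, map_add, gl_left, gl_right]
    have h1 : ((f w : W) : V) + u - (w + u) = (f w : W) - w := by abel
    rw [h1]
    exact W.sub_mem (f w).2 w.2
  -- (F1)
  have hF1 : ∀ z, z ∉ Q → ∀ w ∈ W, ψ z w ∈ U := by
    intro z hz w hw
    have hb'E : z * b * z⁻¹ ∈ E := hEn.conj_mem b hbE z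
    have hb'Q := hEQ hb'E
    have hfix : ψ (z * b * z⁻¹) (ψ z w) = ψ z w := by
      rw [← psi_mul]
      have h1 : z * b * z⁻¹ * z = z * b := by group
      rw [h1, psi_mul, (hWm w).1 hw]
    obtain ⟨w', u', hwu⟩ := exists_dec hWU (ψ z w)
    have h1 : ψ (z * b * z⁻¹) w' = w' := by
      have h2 := hfix
      rw [hwu, map_add] at h2
      have h3 : ψ (z * b * z⁻¹) w' - w' ∈ W := W.sub_mem (hQW _ hb'Q w' w'.2) w'.2
      have h4 : ψ (z * b * z⁻¹) w' - w' = u' - ψ (z * b * z⁻¹) u' := by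
        rw [sub_eq_sub_iff_add_eq_add, h2]
        abel
      have h5 : ψ (z * b * z⁻¹) w' - w' ∈ U := by
        rw [h4]
        exact U.sub_mem u'.2 (hQU _ hb'Q u' u'.2)
      have h6 := (Submodule.disjoint_def.1 hWU.disjoint) _ h3 h5
      exact sub_eq_zero.1 h6
    have h2 : (w' : V) = 0 := by
      apply hE0
      let H : Subgroup B :=
        { carrier := {e | e ∈ E ∧ ψ e w' = w'}
          mul_mem' := by
            rintro x y ⟨hx, hx'⟩ ⟨hy, hy'⟩
            exact ⟨E.mul_mem hx hy, by rw [psi_mul, hy', hx']⟩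
          one_mem' := ⟨E.one_mem, psi_one ψ _⟩
          inv_mem' := by
            rintro x ⟨hx, hx'⟩
            refine ⟨E.inv_mem hx, ?_⟩
            have h7 : ψ x⁻¹ (ψ x w') = w' := by rw [← psi_mul, inv_mul_cancel, psi_one]
            rwa [hx'] at h7 }
      have hbH : zpowers b ≤ H := by
        rw [zpowers_le]
        exact ⟨hbE, (hWm _).1 w'.2⟩
      have hHE : H ≤ E := fun x hx => hx.1
      have hb'H : z * b * z⁻¹ ∈ H := ⟨hb'E, h1⟩
      have h8 : Nat.card H ∣ p ^ 2 := by rw [← hEc]; exact Subgroup.card_dvd_of_le hHE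
      have h9 : p ∣ Nat.card H := by
        rw [← hbp, ← Nat.card_zpowers]
        exact Subgroup.card_dvd_of_le hbH
      have h10 : H = E := by
        obtain ⟨j, hj, hj2⟩ := (Nat.dvd_prime_pow hp.out).1 h8
        apply Subgroup.eq_of_le_of_card_ge hHE
        rw [hEc]
        interval_cases j
        · rw [hj2, pow_zero] at h9
          exact absurd (Nat.dvd_one.1 h9) hp.out.ne_one
        · exfalso
          apply hz
          apply hQ
          have h11 : zpowers b = H := by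
            apply Subgroup.eq_of_le_of_card_ge hbH
            rw [Nat.card_zpowers, hbp, hj2, pow_one]
          rw [h11]
          exact hb'H
        · rw [hj2]
      intro e he
      rw [← h10] at he
      exact he.2
    rw [hwu, h2, zero_add]
    exact u'.2
  -- conjugates commute
  have hk1 : ∀ z, Commute k (ρ z * k * (ρ z)⁻¹) := by
    intro z
    by_cases hz : z ∈ Q
    · rw [hkQ z hz]
    · have hz' : z⁻¹ ∉ Q := fun h => hz (by rw [← inv_inv z]; exact Q.inv_mem h)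
      change k * (ρ z * k * (ρ z)⁻¹) = (ρ z * k * (ρ z)⁻¹) * k
      apply Units.ext
      apply LinearMap.ext
      intro v
      have hkz : ∀ v, ((ρ z * k * (ρ z)⁻¹ : (V →ₗ[F] V)ˣ) : V →ₗ[F] V) v =
          v + ψ z ((k : V →ₗ[F] V) (ψ z⁻¹ v) - ψ z⁻¹ v) := by
        intro v
        have h1 : ((ρ z * k * (ρ z)⁻¹ : (V →ₗ[F] V)ˣ) : V →ₗ[F] V) v =
            ψ z ((k : V →ₗ[F] V) ((((ρ z)⁻¹ : (V →ₗ[F] V)ˣ) : V →ₗ[F] V) v)) := rfl
        rw [h1, hρi, map_sub, ← psi_mul, mul_inv_cancel, psi_one]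
        abel
      change (k : V →ₗ[F] V) (((ρ z * k * (ρ z)⁻¹ : (V →ₗ[F] V)ˣ) : V →ₗ[F] V) v) =
        ((ρ z * k * (ρ z)⁻¹ : (V →ₗ[F] V)ˣ) : V →ₗ[F] V) ((k : V →ₗ[F] V) v)
      rw [hkz, hkz, map_add, hkU _ (hF1 z hz _ (hkd _))]
      congr 2
      -- `k (ψ z⁻¹ (k v)) - ψ z⁻¹ (k v) = k (ψ z⁻¹ v) - ψ z⁻¹ v`
      obtain ⟨d, hd⟩ : ∃ d, d = (k : V →ₗ[F] V) v - v := ⟨_, rfl⟩
      have hkv : (k : V →ₗ[F] V) v = v + d := by rw [hd]; abel
      have h2 := hkU _ (hF1 z⁻¹ hz' d (by rw [hd]; exact hkd v))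
      rw [hkv, map_add, map_add, h2]
      abel
  have hkc : ∀ y z : B, Commute (ρ y * k * (ρ y)⁻¹) (ρ z * k * (ρ z)⁻¹) := by
    intro y z
    have h1 := hk1 (y⁻¹ * z)
    have h2 : ρ z * k * (ρ z)⁻¹ = ρ y * (ρ (y⁻¹ * z) * k * (ρ (y⁻¹ * z))⁻¹) * (ρ y)⁻¹ := by
      rw [map_mul, map_inv]
      group
    rw [h2]
    exact commute_conj (ρ y) h1
  obtain ⟨h, hh, hD⟩ := exists_norm ρ D k hkc
  refine ⟨(h : V →ₗ[F] V), ?_, ?_⟩
  · have h1 : LinearMap.det (h : V →ₗ[F] V) = ((D h : Fˣ) : F) := rfl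
    have h2 : D k = c ^ m := by
      apply Units.ext
      change LinearMap.det (k : V →ₗ[F] V) = _
      rw [hk, hkdet]
    rw [h1, hD, h2]
    congr 1
    rw [← pow_mul, mul_comm, pow_mul]
    exact hm
  · intro a v
    have h1 := congrArg Units.val (hh a)
    exact (LinearMap.congr_fun h1 v).symm

/-- the irreducible faithful case -/
theorem irr_case [Nontrivial V] (hp2 : p ≠ 2) (hpF : (p : F) ≠ 0) (hB : IsPGroup p B) (ψ : B →* (V →ₗ[F] V))
    (hinj : Function.Injective ψ) (hirr : ∀ U : Submodule F V, Inv ψ U → U = ⊥ ∨ U = ⊤)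
    (ih : ∀ (W : Submodule F V) (Q : Subgroup B) (hW : Inv (ψ.comp Q.subtype) W) (c : Fˣ), ¬ p ∣ orderOf c →
      0 < finrank F W → finrank F W < finrank F V →
      ∃ h : W →ₗ[F] W, LinearMap.det h = c ∧ ∀ a v, h (restr (ψ.comp Q.subtype) W hW a v) =
        restr (ψ.comp Q.subtype) W hW a (h v)) (c : Fˣ) (hc : ¬ p ∣ orderOf c) :
    ∃ h : V →ₗ[F] V, LinearMap.det h = c ∧ ∀ a v, h (ψ a v) = ψ a (h v) := by
  by_cases hcyc : IsCyclic B
  · letI : CommGroup B := IsCyclic.commGroup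
    exact exists_det_comm ψ hirr (c : F)
  · obtain ⟨E, hEn, hE, hEc⟩ := Cfsg.Agent.S0126.result hp2 hB hcyc
    exact step hpF hB ψ hinj hirr E hE hEc ih c hc

end step

/-- **determinants of elements commuting with a `p`-group** -/
theorem exists_det_aux {F : Type w} [Field F] [Finite F] {p : ℕ} [hp : Fact p.Prime] (hp2 : p ≠ 2) (hpF : (p : F) ≠ 0) :
    ∀ (n : ℕ) (V : Type v) [AddCommGroup V] [Module F V] [FiniteDimensional F V] (_ : finrank F V = n) (_ : 0 < n)
      (A : Type u) [Group A] [Finite A] (_ : IsPGroup p A) (φ : A →* (V →ₗ[F] V)) (c : Fˣ) (_ : ¬ p ∣ orderOf c),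
      ∃ h : V →ₗ[F] V, LinearMap.det h = c ∧ ∀ a v, h (φ a v) = φ a (h v) := by
  intro n
  induction n using Nat.strong_induction_on with
  | _ n ih =>
  intro V _ _ _ hn hn0 A _ _ hA φ c hc
  haveI : Nontrivial V := Module.nontrivial_of_finrank_pos (R := F) (by rw [hn]; exact hn0)
  by_cases hirr : ∀ U : Submodule F V, Inv φ U → U = ⊥ ∨ U = ⊤
  · obtain ⟨ψ, hψ⟩ : ∃ ψ : (A ⧸ φ.ker) →* (V →ₗ[F] V), ∀ a : A, ψ (QuotientGroup.mk a) = φ a :=
      ⟨QuotientGroup.lift φ.ker φ le_rfl, fun a => QuotientGroup.lift_mk _ _ _⟩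
    have hinj : Function.Injective ψ := by
      rw [injective_iff_map_eq_one]
      intro a
      induction a using QuotientGroup.induction_on with
      | H a =>
        intro h
        rw [hψ] at h
        rw [QuotientGroup.eq_one_iff]
        exact h
    have hirr' : ∀ U : Submodule F V, Inv ψ U → U = ⊥ ∨ U = ⊤ := by
      intro U hU
      refine hirr U (fun a w hw => ?_)
      rw [← hψ]
      exact hU _ w hw
    suffices h : ∃ h : V →ₗ[F] V, LinearMap.det h = c ∧ ∀ a v, h (ψ a v) = ψ a (h v) by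
      obtain ⟨h, h1, h2⟩ := h
      refine ⟨h, h1, fun a v => ?_⟩
      rw [← hψ]
      exact h2 _ v
    have hB : IsPGroup p (A ⧸ φ.ker) := hA.to_quotient φ.ker
    refine irr_case hp2 hpF hB ψ hinj hirr' ?_ c hc
    intro W Q hW c hc hd0 hd1
    exact ih (finrank F W) (by rw [← hn]; exact hd1) W rfl hd0 Q (hB.to_subgroup Q) _ c hc
  · push Not at hirr
    obtain ⟨W, hW, hW0, hW1⟩ := hirr
    have hcard : (Nat.card A : F) ≠ 0 := by
      obtain ⟨k, hk⟩ := IsPGroup.iff_card.1 hA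
      rw [hk, Nat.cast_pow]
      exact pow_ne_zero _ hpF
    obtain ⟨U, hU, hWU⟩ := exists_compl φ hcard W hW
    have hd0 : 0 < finrank F W := by
      haveI := Submodule.nontrivial_iff_ne_bot.2 hW0
      exact Module.finrank_pos
    have hd1 : finrank F W < n := by rw [← hn]; exact Submodule.finrank_lt hW1
    obtain ⟨f, hf, hfc⟩ := ih (finrank F W) hd1 W rfl hd0 A hA (restr φ W hW) c hc
    refine ⟨gl hWU f, by rw [det_gl, hf], ?_⟩
    intro a v
    apply gl_comm hWU f (φ a) (hW a) (hU a)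
    intro w hw
    exact congrArg Subtype.val (hfc a w)

/-- **determinants of elements commuting with a `p`-group** -/
theorem exists_det {F : Type w} [Field F] [Finite F] {p : ℕ} [hp : Fact p.Prime] (hp2 : p ≠ 2) (hpF : (p : F) ≠ 0)
    {V : Type v} [AddCommGroup V] [Module F V] [FiniteDimensional F V] (hV : 0 < finrank F V)
    {A : Type u} [Group A] [Finite A] (hA : IsPGroup p A) (φ : A →* (V →ₗ[F] V)) (c : Fˣ) (hc : ¬ p ∣ orderOf c) :
    ∃ h : V →ₗ[F] V, LinearMap.det h = c ∧ ∀ a v, h (φ a v) = φ a (h v) :=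
  exists_det_aux hp2 hpF (finrank F V) V rfl hV A hA φ c hc

end Cfsg.Agent.H845.KB
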