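import Cfsg.Agent.H845.KB.AbTools
import Cfsg.Agent.H845.KB.CenDetMain
import Cfsg.Agent.H199.PslAut
import Cfsg.Agent.Schreier.ClassBase
import Cfsg.Prelude.Def_LieTypeChar

/-!
# S4822, AO1: `AbOut` for `PSL_n(q)`
-/

set_option autoImplicit false

open Cfsg Subgroup Cfsg.Agent.H508.KB Matrix
open Cfsg.Agent.H199.PslAut
open Cfsg.Agent.ClassicalGeometry.AutPSL.Root
open Cfsg.Agent.ClassicalGeometry.AutPSL.Auto
open Cfsg.Agent.ClassicalGeometry.AutPSL.Main

namespace Cfsg.Agent.H845.KB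

universe u

section psl

variable {F : Type*} [Field F] [Fintype F] {n : ℕ}

/-- commutators of automorphisms of `PSL_n(F)` are inner-diagonal -/
theorem comm_mem_inndiag (hn : 2 ≤ n) (α β : MulAut (Matrix.ProjectiveSpecialLinearGroup (Fin n) F)) :
    α * β * α⁻¹ * β⁻¹ ∈ inndiagPSL n F := by
  haveI := inndiag_normal (F := F) hn
  let π := QuotientGroup.mk' (inndiagPSL n F)
  have hπ : ∀ g : GL (Fin n) F, π (Psi n F g) = 1 := fun g => (QuotientGroup.eq_one_iff _).2 (Psi_mem g)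
  have h1 : ∀ γ : MulAut (Matrix.ProjectiveSpecialLinearGroup (Fin n) F),
      ∃ (σ : F ≃+* F) (i : ℕ), π γ = π (phi n F σ) * π (iot n F) ^ i := by
    intro γ
    rcases exists_form hn γ with ⟨g, σ, rfl⟩ | ⟨-, g, σ, rfl⟩
    · exact ⟨σ, 0, by rw [map_mul, hπ, one_mul, pow_zero, mul_one]⟩
    · exact ⟨σ, 1, by rw [map_mul, map_mul, hπ, one_mul, pow_one]⟩
  have h2 : ∀ σ τ : F ≃+* F, Commute (π (phi n F σ)) (π (phi n F τ)) := by
    intro σ τ
    change _ * _ = _ * _
    rw [← map_mul, ← map_mul, ← map_mul, ← map_mul, Cfsg.Agent.Schreier.ClassBase.ringAut_comm]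
  have h3 : ∀ σ : F ≃+* F, Commute (π (iot n F)) (π (phi n F σ)) := by
    intro σ
    change _ * _ = _ * _
    rw [← map_mul, ← map_mul, iot_mul_phi]
  have h4 : Commute (π α) (π β) := by
    obtain ⟨σ, i, hi⟩ := h1 α
    obtain ⟨τ, j, hj⟩ := h1 β
    rw [hi, hj]
    apply Commute.mul_left
    · exact (h2 σ τ).mul_right ((h3 σ).symm.pow_right j)
    · exact ((h3 τ).pow_left i).mul_right ((Commute.refl _).pow_pow i j)
  rw [← QuotientGroup.eq_one_iff]
  change π (α * β * α⁻¹ * β⁻¹) = 1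
  rw [map_mul, map_mul, map_mul, map_inv, map_inv, h4.eq]
  group

/-- the key: an inner-diagonal automorphism `δ` with `δ ^ m` inner, `p ∤ m`, agrees on a Sylow `p`-subgroup with an inner
one -/
theorem inner_on_sylow {p : ℕ} [hp : Fact p.Prime] (hp2 : p ≠ 2) (hpF : (p : F) ≠ 0) (hn : 2 ≤ n)
    (P : Sylow p (Matrix.ProjectiveSpecialLinearGroup (Fin n) F))
    (δ : MulAut (Matrix.ProjectiveSpecialLinearGroup (Fin n) F)) (hδ : δ ∈ inndiagPSL n F) (m : ℕ) (hm : ¬ p ∣ m)
    (hδm : δ ^ m ∈ (MulAut.conj : Matrix.ProjectiveSpecialLinearGroup (Fin n) F →* _).range) :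
    ∃ s : Matrix.ProjectiveSpecialLinearGroup (Fin n) F, ∀ x ∈ (P : Subgroup _), δ x = s * x * s⁻¹ := by
  obtain ⟨g, rfl⟩ := mem_inndiag.1 hδ
  -- the determinant
  obtain ⟨y, hy⟩ := hδm
  obtain ⟨s, rfl⟩ := pr_surjective y
  rw [← Psi_coe, ← map_pow, Psi_eq_Psi_iff hn] at hy
  obtain ⟨u, hu⟩ := hy
  have hdet : (Matrix.GeneralLinearGroup.det g) ^ m = (u⁻¹) ^ n := by
    have h1 := congrArg Matrix.GeneralLinearGroup.det hu
    have h2 : Matrix.GeneralLinearGroup.det (s : GL (Fin n) F) = 1 := by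
      apply Units.ext
      exact s.2
    have h3 : Matrix.GeneralLinearGroup.det (scal n F u) = u ^ n := by
      apply Units.ext
      change ((scal n F u : GL (Fin n) F) : Matrix (Fin n) (Fin n) F).det = _
      rw [coe_scal, Matrix.scalar_apply, Matrix.det_diagonal, Finset.prod_const, Finset.card_univ, Fintype.card_fin]
      rfl
    rw [h2, map_mul, h3, map_pow] at h1
    rw [inv_pow, eq_inv_iff_mul_eq_one, mul_comm]
    exact h1.symm
  obtain ⟨c₁, w, hc₁, hcw⟩ := exists_split hm hdet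
  -- the lift of `P`
  obtain ⟨Q, hQ, hQP⟩ := exists_lift_sylow pr pr_surjective P
  -- the element commuting with `Q`
  let φ : Q →* ((Fin n → F) →ₗ[F] (Fin n → F)) :=
    { toFun := fun q => Matrix.toLin' ((q : Matrix.SpecialLinearGroup (Fin n) F) : Matrix (Fin n) (Fin n) F)
      map_one' := by
        change Matrix.toLin' (1 : Matrix (Fin n) (Fin n) F) = 1
        rw [Matrix.toLin'_one]
        rfl
      map_mul' := fun a b => by
        change Matrix.toLin' (((a : Matrix.SpecialLinearGroup (Fin n) F) : Matrix (Fin n) (Fin n) F) *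
          ((b : Matrix.SpecialLinearGroup (Fin n) F) : Matrix (Fin n) (Fin n) F)) = _
        rw [Matrix.toLin'_mul]
        rfl }
  obtain ⟨h, hh, hcomm⟩ := exists_det hp2 hpF (V := Fin n → F)
    (by rw [Module.finrank_fin_fun]; omega) hQ φ c₁ hc₁
  have hdH : (LinearMap.toMatrix' h).det = (c₁ : F) := by rw [LinearMap.det_toMatrix', hh]
  let H : GL (Fin n) F := Matrix.GeneralLinearGroup.mkOfDetNeZero (LinearMap.toMatrix' h) (by rw [hdH]; exact c₁.ne_zero)
  have hHdet : Matrix.GeneralLinearGroup.det H = c₁ := Units.ext hdH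
  have hH : ∀ t ∈ Q, Psi n F H (pr t) = pr t := by
    intro t ht
    rw [Psi_pr]
    congr 1
    apply Subtype.ext
    rw [coe_cj]
    have h1 : LinearMap.toMatrix' h * (t : Matrix (Fin n) (Fin n) F) = (t : Matrix (Fin n) (Fin n) F) * LinearMap.toMatrix' h := by
      apply Matrix.toLin'.injective
      rw [Matrix.toLin'_mul, Matrix.toLin'_mul, Matrix.toLin'_toMatrix']
      apply LinearMap.ext
      intro v
      exact hcomm ⟨t, ht⟩ v
    change LinearMap.toMatrix' h * (t : Matrix (Fin n) (Fin n) F) * ((H⁻¹ : GL (Fin n) F) : Matrix (Fin n) (Fin n) F) = t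
    rw [h1]
    change (t : Matrix (Fin n) (Fin n) F) * (H : Matrix (Fin n) (Fin n) F) * ((H⁻¹ : GL (Fin n) F) : Matrix (Fin n) (Fin n) F) = t
    rw [mul_assoc, ← Units.val_mul, mul_inv_cancel, Units.val_one, mul_one]
  -- the special part
  obtain ⟨r, hr⟩ : ∃ r : Matrix.SpecialLinearGroup (Fin n) F, (r : GL (Fin n) F) = g * (H * scal n F w)⁻¹ := by
    have h1 : Matrix.GeneralLinearGroup.det (g * (H * scal n F w)⁻¹) = 1 := by
      have h3 : Matrix.GeneralLinearGroup.det (scal n F w) = w ^ n := by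
        apply Units.ext
        change ((scal n F w : GL (Fin n) F) : Matrix (Fin n) (Fin n) F).det = _
        rw [coe_scal, Matrix.scalar_apply, Matrix.det_diagonal, Finset.prod_const, Finset.card_univ, Fintype.card_fin]
        rfl
      rw [map_mul, map_inv, map_mul, h3, hHdet, ← hcw, mul_inv_cancel]
    exact ⟨⟨((g * (H * scal n F w)⁻¹ : GL (Fin n) F) : Matrix (Fin n) (Fin n) F), congrArg Units.val h1⟩, Units.ext rfl⟩
  refine ⟨pr r, fun x hx => ?_⟩
  obtain ⟨t, ht, rfl⟩ := hQP x hx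
  have h1 : g = (r : GL (Fin n) F) * (H * scal n F w) := by rw [hr]; group
  rw [h1, map_mul, map_mul, Psi_scal, mul_one, MulAut.mul_apply, hH t ht, Psi_coe, MulAut.conj_apply]

end psl

/-- **AO1** -/
theorem ab_psl (p : ℕ) [Fact p.Prime] (S : Type u) [Group S] [Finite S] [IsSimpleGroup S] {r : ℕ} [hr : Fact r.Prime]
    (hrp : r ≠ p) (h5 : 5 ≤ p) (h : IsPSLChar r S) : AbOut p S := by
  obtain ⟨F, _, _, _, n, hn, -, ⟨e⟩⟩ := h
  apply abOut_congr e
  have hpF : (p : F) ≠ 0 := by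
    intro h1
    have h2 := (CharP.cast_eq_zero_iff F r p).1 h1
    exact hrp ((Nat.prime_dvd_prime_iff_eq hr.out (Fact.out : p.Prime)).1 h2)
  exact abOut_of (inndiagPSL n F) (comm_mem_inndiag hn)
    (fun P δ hδ m hm hδm => inner_on_sylow (by omega) hpF hn P δ hδ m hm hδm)

end Cfsg.Agent.H845.KB
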