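import Cfsg.Agent.GpLn.Rank
import Cfsg.Agent.S0126

/-!
# S4822, AO: determinants of elements commuting with a `p`-group (`p` odd, not the characteristic)

* `exists_det` : a `p`-group acting on `V ≠ 0` over a finite field, `p` odd and invertible: for every `c ≠ 0` of order
  prime to `p` there is an automorphism of `V` of determinant `c` which commutes with the group.
-/

set_option autoImplicit false

namespace Cfsg.Agent.H845.KB

open Module Cfsg.Agent.GpLn.Rank

/-- product of commuting conjugates -/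
theorem exists_norm {A G C : Type*} [Group A] [Finite A] [Group G] [CommGroup C] (ρ : A →* G) (D : G →* C) (k : G)
    (hk : ∀ y z : A, Commute (ρ y * k * (ρ y)⁻¹) (ρ z * k * (ρ z)⁻¹)) :
    ∃ h : G, (∀ a, ρ a * h = h * ρ a) ∧ D h = D k ^ Nat.card A := by
  classical
  have := Fintype.ofFinite A
  let f : A → G := fun z => ρ z * k * (ρ z)⁻¹
  let m : Multiset G := (Finset.univ : Finset A).1.map f
  have hc : {x | x ∈ m}.Pairwise Commute := by
    intro x hx y hy _
    obtain ⟨a, -, rfl⟩ := Multiset.mem_map.1 hx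
    obtain ⟨b, -, rfl⟩ := Multiset.mem_map.1 hy
    exact hk a b
  have key : ∀ (m' : Multiset G) (hm' : m' = m) (c' : {x | x ∈ m'}.Pairwise Commute),
      Multiset.noncommProd m' c' = Multiset.noncommProd m hc := by
    rintro _ rfl _
    rfl
  refine ⟨Multiset.noncommProd m hc, ?_, ?_⟩
  · intro a
    have h1 : MulAut.conj (ρ a) (Multiset.noncommProd m hc) = Multiset.noncommProd m hc := by
      rw [Multiset.map_noncommProd]
      apply key
      have h2 : m.map (MulAut.conj (ρ a)) = (Finset.univ : Finset A).1.map (fun z => f (a * z)) := by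
        rw [Multiset.map_map]
        apply Multiset.map_congr rfl
        intro z _
        change ρ a * (ρ z * k * (ρ z)⁻¹) * (ρ a)⁻¹ = ρ (a * z) * k * (ρ (a * z))⁻¹
        rw [map_mul]
        group
      rw [h2]
      have h3 : (Finset.univ : Finset A).1.map (fun z => f (a * z)) =
          ((Finset.univ : Finset A).1.map (fun z => a * z)).map f := by
        rw [Multiset.map_map]
        rfl
      rw [h3]
      congr 1
      have h4 := Finset.map_univ_equiv (Equiv.mulLeft a)
      have h5 := congrArg Finset.val h4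
      rwa [Finset.map_val] at h5
    rw [MulAut.conj_apply] at h1
    rw [eq_comm]
    exact (mul_inv_eq_iff_eq_mul.1 h1).symm
  · rw [Multiset.map_noncommProd]
    rw [Multiset.noncommProd_eq_pow_card _ _ (D k)]
    · rw [Multiset.card_map, Multiset.card_map, Nat.card_eq_fintype_card]
      rfl
    · intro x hx
      obtain ⟨y, hy, rfl⟩ := Multiset.mem_map.1 hx
      obtain ⟨a, -, rfl⟩ := Multiset.mem_map.1 hy
      change D (ρ a * k * (ρ a)⁻¹) = D k
      rw [map_mul, map_mul, map_inv, mul_comm (D (ρ a)), mul_inv_cancel_right]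

section glue

variable {F V : Type*} [Field F] [AddCommGroup V] [Module F V] {W U : Submodule F V}

/-- `f` on `W`, the identity on `U` -/
noncomputable def gl (h : IsCompl W U) (f : W →ₗ[F] W) : V →ₗ[F] V :=
  (Submodule.prodEquivOfIsCompl W U h : (W × U) →ₗ[F] V) ∘ₗ (f.prodMap (LinearMap.id : U →ₗ[F] U)) ∘ₗ
      ((Submodule.prodEquivOfIsCompl W U h).symm : V →ₗ[F] W × U)

theorem gl_left (h : IsCompl W U) (f : W →ₗ[F] W) (w : W) : gl h f w = f w := by
  unfold gl
  rw [LinearMap.comp_apply, LinearMap.comp_apply]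
  have h1 : ((Submodule.prodEquivOfIsCompl W U h).symm : V →ₗ[F] W × U) (w : V) = (w, 0) :=
    Submodule.prodEquivOfIsCompl_symm_apply_left W U h w
  rw [h1]
  simp

theorem gl_right (h : IsCompl W U) (f : W →ₗ[F] W) (u : U) : gl h f u = u := by
  unfold gl
  rw [LinearMap.comp_apply, LinearMap.comp_apply]
  have h1 : ((Submodule.prodEquivOfIsCompl W U h).symm : V →ₗ[F] W × U) (u : V) = (0, u) :=
    Submodule.prodEquivOfIsCompl_symm_apply_right W U h u
  rw [h1]
  simp

theorem det_gl [FiniteDimensional F V] (h : IsCompl W U) (f : W →ₗ[F] W) :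
    LinearMap.det (gl h f) = LinearMap.det f := by
  unfold gl
  rw [LinearMap.det_conj, LinearMap.det_prodMap, LinearMap.det_id, mul_one]

theorem exists_dec (h : IsCompl W U) (v : V) : ∃ (w : W) (u : U), v = w + u := by
  have h1 : v ∈ W ⊔ U := by rw [h.sup_eq_top]; exact Submodule.mem_top
  obtain ⟨a, ha, b, hb, hab⟩ := Submodule.mem_sup.1 h1
  exact ⟨⟨a, ha⟩, ⟨b, hb⟩, hab.symm⟩

/-- `gl h f` commutes with `g` if `W` and `U` are `g`-invariant and `f` commutes with `g` on `W` -/
theorem gl_comm (h : IsCompl W U) (f : W →ₗ[F] W) (g : V →ₗ[F] V) (hW : ∀ w ∈ W, g w ∈ W) (hU : ∀ u ∈ U, g u ∈ U)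
    (hf : ∀ (w : W) (hw : g w ∈ W), ((f ⟨g w, hw⟩ : W) : V) = g (f w)) (v : V) : gl h f (g v) = g (gl h f v) := by
  obtain ⟨w, u, rfl⟩ := exists_dec h v
  rw [map_add, map_add, map_add, map_add, gl_left, gl_right]
  have h1 := gl_left h f ⟨g w, hW w w.2⟩
  have h2 := gl_right h f ⟨g u, hU u u.2⟩
  rw [h1, h2, hf]

end glue

section comm

variable {F V : Type*} [Field F] [Finite F] [AddCommGroup V] [Module F V] [FiniteDimensional F V]

/-- the irreducible commutative case: the norm of a finite field is surjective -/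
theorem exists_det_comm {A : Type*} [CommGroup A] (φ : A →* (V →ₗ[F] V)) [Nontrivial V]
    (hirr : ∀ U : Submodule F V, Inv φ U → U = ⊥ ∨ U = ⊤) (c : F) :
    ∃ h : V →ₗ[F] V, LinearMap.det h = c ∧ ∀ a v, h (φ a v) = φ a (h v) := by
  classical
  let S : Subalgebra F (V →ₗ[F] V) := Algebra.adjoin F (Set.range φ)
  have hc : ∀ a ∈ Set.range φ, ∀ b ∈ Set.range φ, a * b = b * a := by
    rintro _ ⟨a, rfl⟩ _ ⟨b, rfl⟩
    rw [← map_mul, ← map_mul, mul_comm]
  haveI hSc : IsMulCommutative S := Algebra.isMulCommutative_adjoin F hc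
  letI : CommRing S := { (inferInstance : Ring S) with mul_comm := fun a b => hSc.is_comm.comm a b }
  have hSφ : ∀ f ∈ S, ∀ a, Commute (φ a) f := by
    intro f hf a
    refine Algebra.commute_of_mem_adjoin_of_forall_mem_commute hf ?_
    intro b hb
    exact hc _ ⟨a, rfl⟩ _ hb
  have hinj : ∀ f ∈ S, f ≠ 0 → ∀ v, f v = 0 → v = 0 := by
    intro f hf hf0 v hv
    have hI : Inv φ (LinearMap.ker f) := by
      intro a w hw
      rw [LinearMap.mem_ker] at hw ⊢
      have h1 := LinearMap.congr_fun (hSφ f hf a) w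
      change φ a (f w) = f (φ a w) at h1
      rw [← h1, hw, map_zero]
    rcases hirr _ hI with h | h
    · have : v ∈ LinearMap.ker f := hv
      rw [h] at this
      exact (Submodule.mem_bot F).1 this
    · exact absurd (LinearMap.ker_eq_top.1 h) hf0
  haveI : Nontrivial S := by
    refine ⟨⟨0, 1, ?_⟩⟩
    intro h
    have h1 : (0 : V →ₗ[F] V) = 1 := congrArg Subtype.val h
    obtain ⟨v, hv⟩ := exists_ne (0 : V)
    exact hv (by simpa using (LinearMap.congr_fun h1 v).symm)
  haveI : NoZeroDivisors S := by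
    refine ⟨?_⟩
    intro f g hfg
    by_cases hf : f = 0
    · exact Or.inl hf
    right
    apply Subtype.ext
    ext v
    have h1 : (f : V →ₗ[F] V) ((g : V →ₗ[F] V) v) = 0 := by
      have h2 := LinearMap.congr_fun (congrArg Subtype.val hfg) v
      simpa using h2
    exact hinj f f.2 (fun h => hf (Subtype.ext h)) _ h1
  haveI : IsDomain S := NoZeroDivisors.to_isDomain S
  have hfinV : Finite V := Module.finite_of_finite F
  haveI : Finite (V →ₗ[F] V) := Module.finite_of_finite F
  haveI : Finite S := inferInstance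
  letI : Field S := (Finite.isField_of_domain S).toField
  obtain ⟨s, hs⟩ := FiniteField.norm_surjective F S c
  -- the evaluation
  obtain ⟨v, hv⟩ := exists_ne (0 : V)
  let ev : S →ₗ[F] V := (LinearMap.applyₗ v).comp S.toSubmodule.subtype
  have hev : ∀ a : S, ev a = (a : V →ₗ[F] V) v := fun _ => rfl
  have hevi : Function.Injective ev := by
    rw [← LinearMap.ker_eq_bot, Submodule.eq_bot_iff]
    intro a ha
    rw [LinearMap.mem_ker, hev] at ha
    by_contra h
    exact hv (hinj a a.2 (fun h1 => h (Subtype.ext h1)) v ha)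
  have hevs : Function.Surjective ev := by
    rw [← LinearMap.range_eq_top]
    have h1 : Inv φ (LinearMap.range ev) := by
      rintro a _ ⟨b, rfl⟩
      refine ⟨⟨φ a, Algebra.subset_adjoin ⟨a, rfl⟩⟩ * b, ?_⟩
      rfl
    rcases hirr _ h1 with h2 | h2
    · exfalso
      apply hv
      have h3 : ev 1 = v := rfl
      have h4 : v ∈ LinearMap.range ev := ⟨1, h3⟩
      rw [h2] at h4
      exact (Submodule.mem_bot F).1 h4
    · exact h2
  let e : S ≃ₗ[F] V := LinearEquiv.ofBijective ev ⟨hevi, hevs⟩
  refine ⟨(s : V →ₗ[F] V), ?_, ?_⟩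
  · rw [← hs, Algebra.norm_apply]
    have h1 : (s : V →ₗ[F] V) = (e : S →ₗ[F] V) ∘ₗ (LinearMap.mul F S s) ∘ₗ (e.symm : V →ₗ[F] S) := by
      apply LinearMap.ext
      intro w
      obtain ⟨t, rfl⟩ := e.surjective w
      rw [LinearMap.comp_apply, LinearMap.comp_apply]
      change (s : V →ₗ[F] V) (e t) = e (s * (e.symm (e t)))
      rw [e.symm_apply_apply]
      rfl
    rw [h1, LinearMap.det_conj]
    rfl
  · intro a w
    have h1 := LinearMap.congr_fun (hSφ s s.2 a) w
    exact h1.symm

end comm

end Cfsg.Agent.H845.KB
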